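import Cfsg.Agent.S0183
import Cfsg.Agent.S1230
import Cfsg.Agent.S0252
import Cfsg.Agent.SimplePower.CharSimple
import Cfsg.Agent.Char.Burnside
import Cfsg.Agent.SL2C.SumFormula
import Cfsg.Agent.SL2C.ClassProducts

/-!
# A nonsolvable group with four automorphism orbits is `A₅`

Such a group has elements of three prime orders and no others, so it is simple, every involution
centraliser is elementary abelian, and `G ≅ PSL₂(2ⁿ)` with `2ⁿ ± 1` prime.
-/

set_option autoImplicit false
set_option linter.style.haveILetI false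

namespace CfsgLib.FourAutOrbits

/-- A nonsolvable group order has three prime divisors. -/
theorem three_le_primeFactors {G : Type*} [Group G] [Finite G] (hns : ¬ Group.IsSolvable G) :
    3 ≤ (Nat.card G).primeFactors.card := by
  by_contra hlt
  push Not at hlt
  refine hns ?_
  obtain ⟨p, q, hp, hq, hsub⟩ : ∃ p q : ℕ, p.Prime ∧ q.Prime ∧
      ∀ r ∈ (Nat.card G).primeFactors, r = p ∨ r = q := by
    interval_cases h : (Nat.card G).primeFactors.card
    · exact ⟨2, 3, Nat.prime_two, Nat.prime_three, fun r hr => by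
        rw [Finset.card_eq_zero] at h; simp [h] at hr⟩
    · obtain ⟨p, hp⟩ := Finset.card_eq_one.1 h
      have hpp := Nat.prime_of_mem_primeFactors (hp ▸ Finset.mem_singleton_self p)
      exact ⟨p, p, hpp, hpp, fun r hr => Or.inl (by simpa [hp] using hr)⟩
    · obtain ⟨p, q, -, hpq⟩ := Finset.card_eq_two.1 h
      exact ⟨p, q, Nat.prime_of_mem_primeFactors (hpq ▸ Finset.mem_insert_self p _),
        Nat.prime_of_mem_primeFactors (hpq ▸ Finset.mem_insert_of_mem (Finset.mem_singleton_self q)),
        fun r hr => by simpa [hpq] using hr⟩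
  have hn : Nat.card G ≠ 0 := Nat.card_pos.ne'
  by_cases hpq : p = q
  · subst hpq
    refine CfsgLib.Char.isSolvable_of_card_eq p p ((Nat.card G).factorization p) 0 hp hp ?_
    rw [pow_zero, mul_one]
    refine Nat.eq_of_factorization_eq hn (pow_pos hp.pos _).ne' fun r => ?_
    rw [hp.factorization_pow]
    by_cases hr : r = p
    · subst hr; simp
    · rw [Finsupp.single_eq_of_ne hr, Finsupp.notMem_support_iff.1]
      rw [Nat.support_factorization]
      exact fun h => (hsub r h).elim hr hr
  · refine CfsgLib.Char.isSolvable_of_card_eq p q ((Nat.card G).factorization p)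
      ((Nat.card G).factorization q) hp hq ?_
    refine Nat.eq_of_factorization_eq hn (Nat.mul_ne_zero (pow_pos hp.pos _).ne' (pow_pos hq.pos _).ne')
      fun r => ?_
    rw [Nat.factorization_mul (pow_pos hp.pos _).ne' (pow_pos hq.pos _).ne', Finsupp.add_apply,
      hp.factorization_pow, hq.factorization_pow]
    by_cases hrp : r = p
    · subst hrp; simp [Ne.symm hpq, hpq]
    by_cases hrq : r = q
    · subst hrq; simp [hrp, Ne.symm hrp]
    rw [Finsupp.single_eq_of_ne hrp, Finsupp.single_eq_of_ne hrq, add_zero,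
      Finsupp.notMem_support_iff.1 (show r ∉ (Nat.card G).factorization.support by
        rw [Nat.support_factorization]; exact fun h => (hsub r h).elim hrp hrq)]

variable {G : Type*} [Group G] [Finite G]

theorem iso_alt_five (hns : ¬ Group.IsSolvable G)
    (h4 : Nat.card (MulAction.orbitRel.Quotient (MulAut G) G) = 4) :
    Nonempty (G ≃* alternatingGroup (Fin 5)) := by
  classical
  haveI := Fintype.ofFinite (MulAction.orbitRel.Quotient (MulAut G) G)
  have hord : ∀ x y : G, (Quotient.mk (MulAction.orbitRel (MulAut G) G) x) = Quotient.mk _ y →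
      ∃ a : MulAut G, a y = x := fun x y h => MulAction.orbitRel_apply.1 (Quotient.exact h)
  -- three prime orders
  obtain ⟨p, q, r, hp, hq, hr, hpq, hpr, hqr⟩ :=
    Finset.two_lt_card_iff.1 (three_le_primeFactors hns)
  have hel : ∀ s ∈ (Nat.card G).primeFactors, ∃ x : G, orderOf x = s := fun s hs => by
    haveI := Fact.mk (Nat.prime_of_mem_primeFactors hs)
    exact exists_prime_orderOf_dvd_card' s (Nat.dvd_of_mem_primeFactors hs)
  obtain ⟨xp, hxp⟩ := hel p hp
  obtain ⟨xq, hxq⟩ := hel q hq
  obtain ⟨xr, hxr⟩ := hel r hr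
  have hp1 : p ≠ 1 := (Nat.prime_of_mem_primeFactors hp).ne_one
  have hq1 : q ≠ 1 := (Nat.prime_of_mem_primeFactors hq).ne_one
  have hr1 : r ≠ 1 := (Nat.prime_of_mem_primeFactors hr).ne_one
  obtain ⟨cl, hcl⟩ : ∃ cl : G → MulAction.orbitRel.Quotient (MulAut G) G,
      ∀ x, cl x = Quotient.mk _ x := ⟨fun x => Quotient.mk _ x, fun x => rfl⟩
  have horb : ∀ x y : G, cl x = cl y → ∃ a : MulAut G, a y = x := fun x y h =>
    hord x y (by rw [← hcl, ← hcl, h])
  have hne : ∀ x y : G, orderOf x ≠ orderOf y → cl x ≠ cl y := fun x y hxy h => by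
    obtain ⟨a, rfl⟩ := horb x y h
    exact hxy (MulEquiv.orderOf_eq a y)
  have hall : ∀ x : G, cl x = cl 1 ∨ cl x = cl xp ∨ cl x = cl xq ∨ cl x = cl xr := fun x => by
    have hcard : ({cl 1, cl xp, cl xq, cl xr} :
        Finset (MulAction.orbitRel.Quotient (MulAut G) G)).card = 4 := by
      rw [Finset.card_insert_of_notMem, Finset.card_insert_of_notMem,
        Finset.card_insert_of_notMem, Finset.card_singleton]
      · simpa using hne _ _ (by rw [hxq, hxr]; exact hqr)
      · simpa using ⟨hne _ _ (by rw [hxp, hxq]; exact hpq), hne _ _ (by rw [hxp, hxr]; exact hpr)⟩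
      · simpa using ⟨hne _ _ (by rw [orderOf_one, hxp]; exact hp1.symm),
          hne _ _ (by rw [orderOf_one, hxq]; exact hq1.symm),
          hne _ _ (by rw [orderOf_one, hxr]; exact hr1.symm)⟩
    have huniv := Finset.eq_univ_of_card _ (by rw [hcard, ← h4, Nat.card_eq_fintype_card])
    have := Finset.mem_univ (cl x)
    rw [← huniv] at this
    simpa using this
  have hprime : ∀ x : G, x ≠ 1 → orderOf x = p ∨ orderOf x = q ∨ orderOf x = r := fun x hx => by
    rcases hall x with h | h | h | h <;> obtain ⟨a, ha⟩ := horb _ _ h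
    · exact absurd (ha.symm.trans (map_one a)) hx
    · exact Or.inl (by rw [← ha, MulEquiv.orderOf_eq, hxp])
    · exact Or.inr (Or.inl (by rw [← ha, MulEquiv.orderOf_eq, hxq]))
    · exact Or.inr (Or.inr (by rw [← ha, MulEquiv.orderOf_eq, hxr]))
  have hprime' : ∀ x : G, x ≠ 1 → (orderOf x).Prime := fun x hx => by
    rcases hprime x hx with h | h | h <;> rw [h]
    exacts [Nat.prime_of_mem_primeFactors hp, Nat.prime_of_mem_primeFactors hq,
      Nat.prime_of_mem_primeFactors hr]
  have hnopq : ∀ x y : G, Commute x y → x ≠ 1 → y ≠ 1 → orderOf x = orderOf y := by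
    intro x y hxy hx hy
    by_contra hxy'
    have hcop := (Nat.coprime_primes (hprime' x hx) (hprime' y hy)).2 hxy'
    have hm := hxy.orderOf_mul_eq_mul_orderOf_of_coprime hcop
    have hne1 : x * y ≠ 1 := fun h => by
      rw [h, orderOf_one] at hm
      exact (hprime' x hx).ne_one (Nat.eq_one_of_mul_eq_one_right hm.symm)
    have := hprime' _ hne1
    rw [hm] at this
    exact Nat.not_prime_mul (hprime' x hx).ne_one (hprime' y hy).ne_one this
  -- characteristically simple
  haveI : Nontrivial G := ⟨xp, 1, fun h => hp1 (by rw [← hxp, h, orderOf_one])⟩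
  have hchar : ∀ H : Subgroup G, H.Characteristic → H = ⊥ ∨ H = ⊤ := fun H hH => by
    haveI := hH
    have hinv : ∀ x y : G, cl x = cl y → y ∈ H → x ∈ H := fun x y h hy => by
      obtain ⟨a, rfl⟩ := horb x y h
      have := SetLike.ext_iff.1 (Subgroup.characteristic_iff_comap_eq.1 hH a) y
      exact this.2 hy
    have hsprime : ∀ s ∈ (Nat.card G).primeFactors, s = p ∨ s = q ∨ s = r := fun s hs => by
      obtain ⟨x, hx⟩ := hel s hs
      rw [← hx]
      exact hprime x fun h => (Nat.prime_of_mem_primeFactors hs).ne_one (by rw [← hx, h, orderOf_one])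
    have hthree : ∀ F : Finset ℕ, F ⊆ (Nat.card G).primeFactors → 3 ≤ F.card →
        p ∈ F ∧ q ∈ F ∧ r ∈ F := fun F hF hF3 => by
      have hpf : (Nat.card G).primeFactors ⊆ {p, q, r} := fun s hs => by simpa using hsprime s hs
      have hle : ({p, q, r} : Finset ℕ).card ≤ 3 := Finset.card_le_three
      have heq : F = {p, q, r} := Finset.eq_of_subset_of_card_le (hF.trans hpf) (hle.trans hF3)
      simp [heq]
    by_cases hsH : Group.IsSolvable H
    · left
      have hq' : ¬ Group.IsSolvable (G ⧸ H) := fun h => hns (solvable_of_ker_le_range H.subtype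
        (QuotientGroup.mk' H) (by rw [QuotientGroup.ker_mk', Subgroup.range_subtype]))
      have h3 := hthree _ (Nat.primeFactors_mono (Subgroup.card_quotient_dvd_card H)
        Nat.card_pos.ne') (three_le_primeFactors hq')
      have hout : ∀ s ∈ (Nat.card (G ⧸ H)).primeFactors, ∃ x : G, x ∉ H ∧ orderOf x = s := by
        intro s hs
        haveI := Fact.mk (Nat.prime_of_mem_primeFactors hs)
        obtain ⟨y, hy⟩ := exists_prime_orderOf_dvd_card' s (Nat.dvd_of_mem_primeFactors hs)
        obtain ⟨x, rfl⟩ := QuotientGroup.mk'_surjective H y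
        have hxH : x ∉ H := fun h => by
          rw [show QuotientGroup.mk' H x = 1 from (QuotientGroup.eq_one_iff x).2 h, orderOf_one] at hy
          exact (Fact.out : s.Prime).ne_one hy.symm
        refine ⟨x, hxH, ?_⟩
        have hd := orderOf_map_dvd (QuotientGroup.mk' H) x
        rw [hy] at hd
        exact ((Nat.prime_dvd_prime_iff_eq Fact.out (hprime' x fun h => hxH (h ▸ H.one_mem))).1 hd).symm
      refine (Subgroup.eq_bot_iff_forall H).2 fun x hx => ?_
      by_contra hx1
      have key : ∀ s x₀, s ∈ (Nat.card (G ⧸ H)).primeFactors → orderOf x₀ = s → cl x ≠ cl x₀ :=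
        fun s x₀ hs hx₀ h => by
          obtain ⟨y, hyH, hy⟩ := hout s hs
          have hy1 : y ≠ 1 := fun e => hyH (e ▸ H.one_mem)
          have h' : cl y = cl x₀ := by
            rcases hall y with e | e | e | e <;> rcases hall x₀ with e' | e' | e' | e' <;>
              first
                | exact e.trans e'.symm
                | exact absurd (show orderOf y = orderOf x₀ by rw [hy, hx₀]) (fun ho => by
                    obtain ⟨a, ha⟩ := horb _ _ e
                    obtain ⟨b, hb⟩ := horb _ _ e'
                    rw [← ha, ← hb, MulEquiv.orderOf_eq, MulEquiv.orderOf_eq] at ho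
                    simp only [orderOf_one, hxp, hxq, hxr] at ho
                    omega)
          exact hyH (hinv y x (h'.trans h.symm) hx)
      rcases hall x with h | h | h | h
      · exact hx1 (by obtain ⟨a, ha⟩ := horb _ _ h; rw [← ha, map_one])
      · exact key p xp h3.1 hxp h
      · exact key q xq h3.2.1 hxq h
      · exact key r xr h3.2.2 hxr h
    · right
      have h3 := hthree _ (Nat.primeFactors_mono (Subgroup.card_subgroup_dvd_card H)
        Nat.card_pos.ne') (three_le_primeFactors hsH)
      refine Subgroup.eq_top_iff' H |>.2 fun x => ?_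
      have key : ∀ s, s ∈ (Nat.card H).primeFactors → orderOf x = s → x ∈ H := fun s hs hxs => by
        haveI := Fact.mk (Nat.prime_of_mem_primeFactors hs)
        obtain ⟨y, hy⟩ := exists_prime_orderOf_dvd_card' s (Nat.dvd_of_mem_primeFactors hs)
        refine hinv x y ?_ y.2
        have hy' : orderOf (y : G) = s := by rw [Subgroup.orderOf_coe, hy]
        by_contra hh
        rcases hall x with e | e | e | e <;> rcases hall (y : G) with e' | e' | e' | e' <;>
          first
            | exact hh (e.trans e'.symm)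
            | (obtain ⟨a, ha⟩ := horb _ _ e
               obtain ⟨b, hb⟩ := horb _ _ e'
               rw [← ha, MulEquiv.orderOf_eq] at hxs
               rw [← hb, MulEquiv.orderOf_eq] at hy'
               simp only [orderOf_one, hxp, hxq, hxr] at hxs hy'
               omega)
      by_cases hx1 : x = 1
      · exact hx1 ▸ H.one_mem
      rcases hprime x hx1 with h | h | h
      · exact key p h3.1 h
      · exact key q h3.2.1 h
      · exact key r h3.2.2 h
  obtain ⟨S, iS, iSs, n, hn, ⟨e⟩⟩ := CfsgLib.SimplePower.charSimple_iff.1 hchar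
  have hn1 : n = 1 := by
    by_contra hn1
    have hS : Finite S :=
      Finite.of_injective (fun s => e.symm (fun _ : Fin n => s)) fun a b h =>
        congrFun (e.symm.injective h) ⟨0, by omega⟩
    have hSo : ∀ s ∈ (Nat.card G).primeFactors, ∃ a : S, orderOf a = s := fun s hs => by
      haveI := Fact.mk (Nat.prime_of_mem_primeFactors hs)
      refine exists_prime_orderOf_dvd_card' s ((Fact.out : s.Prime).dvd_of_dvd_pow (n := n) ?_)
      have : Nat.card G = Nat.card S ^ n := by rw [Nat.card_congr e.toEquiv, Nat.card_fun, Nat.card_fin]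
      rw [← this]
      exact Nat.dvd_of_mem_primeFactors hs
    obtain ⟨a, ha⟩ := hSo p hp
    obtain ⟨b, hb⟩ := hSo q hq
    have hinj : ∀ i : Fin n, Function.Injective (fun x : S => e.symm (Pi.mulSingle i x)) := fun i =>
      e.symm.injective.comp (Pi.mulSingle_injective i)
    have ho : ∀ (i : Fin n) (x : S), orderOf (e.symm (Pi.mulSingle i x)) = orderOf x := fun i x => by
      rw [MulEquiv.orderOf_eq]
      exact orderOf_injective (MonoidHom.mulSingle (fun _ : Fin n => S) i)
        (fun a b h => Pi.mulSingle_injective (M := fun _ : Fin n => S) i h) x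
    have hc : Commute (e.symm (Pi.mulSingle (⟨0, by omega⟩ : Fin n) a))
        (e.symm (Pi.mulSingle (⟨1, by omega⟩ : Fin n) b)) :=
      (Pi.mulSingle_commute (f := fun _ : Fin n => S) (by simp) a b).map e.symm.toMonoidHom
    refine hpq ?_
    have := hnopq _ _ hc (fun h => hp1 (by rw [← ha, ← ho, h, orderOf_one]))
      (fun h => hq1 (by rw [← hb, ← ho, h, orderOf_one]))
    rwa [ho, ho, ha, hb] at this
  subst hn1
  haveI : IsSimpleGroup G := (e.trans (MulEquiv.funUnique (Fin 1) S)).isSimpleGroup
  -- the order is even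
  haveI : Fact (Nat.Prime 2) := ⟨Nat.prime_two⟩
  have h2 : 2 ∣ Nat.card G := by
    by_contra h
    refine hns (Cfsg.Agent.S0183.result (Nat.odd_iff.2 (Nat.two_dvd_ne_zero.1 h)) fun g hg => ?_)
    haveI := Fact.mk (hprime' g hg)
    refine IsPGroup.isNilpotent (p := orderOf g) fun x => ?_
    by_cases hx : x = 1
    · exact ⟨0, by simp [hx]⟩
    refine ⟨1, ?_⟩
    have hxg : Commute (x : G) g := Subgroup.mem_centralizer_singleton_iff.1 x.2
    rw [pow_one, hnopq g x hxg.symm hg fun h => hx (Subtype.ext h), Subgroup.orderOf_coe]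
    exact pow_orderOf_eq_one x
  obtain ⟨T⟩ := (inferInstance : Nonempty (Sylow 2 G))
  have hnn : ¬ (T : Subgroup G).Normal := fun h => by
    rcases h.eq_bot_or_eq_top with h' | h'
    · have := T.dvd_card_of_dvd_card h2
      rw [h', Subgroup.card_bot] at this
      omega
    · haveI : Group.IsNilpotent (T : Subgroup G) := T.2.isNilpotent
      refine hns (solvable_of_surjective (G := (T : Subgroup G)) (f := (T : Subgroup G).subtype) ?_)
      intro x
      exact ⟨⟨x, h' ▸ Subgroup.mem_top x⟩, rfl⟩
  have hC : ∀ t : G, orderOf t = 2 → ∀ c ∈ Subgroup.centralizer ({t} : Set G), c ^ 2 = 1 := by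
    intro t ht c hc
    by_cases hc1 : c = 1
    · simp [hc1]
    have := hnopq t c (Subgroup.mem_centralizer_singleton_iff.1 hc).symm
      (fun h => by rw [h, orderOf_one] at ht; omega) hc1
    rw [← ht, this, pow_orderOf_eq_one]
  have hexp : ∀ x ∈ (T : Subgroup G), x ^ 2 = 1 := fun x hx => by
    by_cases hx1 : x = 1
    · simp [hx1]
    obtain ⟨k, hk⟩ := IsPGroup.iff_orderOf.1 T.2 ⟨x, hx⟩
    rw [Subgroup.orderOf_mk] at hk
    have hpr := hprime' x hx1
    rw [hk] at hpr
    have hk1 : k = 1 := (Nat.Prime.eq_one_of_pow (hpr))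
    rw [show (2 : ℕ) = orderOf x by rw [hk, hk1, pow_one], pow_orderOf_eq_one]
  have hnc : ¬ IsCyclic (T : Subgroup G) := fun hcyc => by
    obtain ⟨g, hg⟩ := hcyc.exists_ofOrder_eq_natCard
    have hle : orderOf g ≤ 2 := orderOf_le_of_pow_eq_one (by norm_num) (Subtype.ext (hexp g g.2))
    have h2T := T.dvd_card_of_dvd_card h2
    have hT2 : Nat.card (T : Subgroup G) = 2 := by
      have := Nat.le_of_dvd Nat.card_pos h2T
      omega
    have hNT : Subgroup.normalizer ((T : Subgroup G) : Set G) ≤
        Subgroup.centralizer ((T : Subgroup G) : Set G) := fun x hx => by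
      refine Subgroup.mem_centralizer_iff.2 fun t ht => ?_
      by_cases ht1 : t = 1
      · simp [ht1]
      obtain ⟨y, hy, huniq⟩ := Nat.card_eq_two_iff' (⟨1, (T : Subgroup G).one_mem⟩ : (T : Subgroup G)) |>.1 hT2
      have hmem := (Subgroup.mem_normalizer_iff.1 hx t).1 ht
      have e1 := huniq ⟨t, ht⟩ (fun h => ht1 (congrArg Subtype.val h))
      have e2 := huniq ⟨_, hmem⟩ (fun h => ht1 (conj_eq_one_iff.1 (congrArg Subtype.val h)))
      have e3 : x * t * x⁻¹ = t := congrArg Subtype.val (e2.trans e1.symm)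
      exact (mul_inv_eq_iff_eq_mul.1 e3).symm
    have hc := MonoidHom.ker_transferSylow_isComplement' T hNT
    rcases (MonoidHom.normal_ker (MonoidHom.transferSylow T hNT)).eq_bot_or_eq_top with h | h
    · rw [h] at hc
      exact hnn (Subgroup.isComplement'_bot_left.1 hc ▸ inferInstance)
    · rw [h] at hc
      rw [Subgroup.isComplement'_top_left.1 hc, Subgroup.card_bot] at hT2
      omega
  obtain ⟨F, iF, iFt, hF, ⟨φ⟩⟩ := Cfsg.Agent.S1230.result T hnc hnn fun t ht => by
    refine ⟨⟨⟨fun a b => Subtype.ext ?_⟩⟩, hC t ht⟩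
    have ha := hC t ht a a.2
    have hb := hC t ht b b.2
    have hab := hC t ht _ (mul_mem a.2 b.2)
    rw [pow_two] at ha hb hab
    show (a : G) * b = b * a
    rw [← inv_eq_of_mul_eq_one_right hab, mul_inv_rev, inv_eq_of_mul_eq_one_right ha,
      inv_eq_of_mul_eq_one_right hb]
  -- the field has four elements
  obtain ⟨k, hk⟩ := IsPGroup.iff_card.1 T.2
  rw [hk] at hF
  have hk2 : 2 ≤ k := by
    by_contra hlt
    interval_cases k
    · exact hnc (by
        haveI : Subsingleton (T : Subgroup G) := (Nat.card_eq_one_iff_unique.1 (by simpa using hk)).1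
        exact isCyclic_of_subsingleton)
    · exact hnc (isCyclic_of_prime_card (p := 2) (by simpa using hk))
  letI : CharP F 2 := by
    obtain ⟨s, hs⟩ := CharP.exists F
    obtain ⟨j, hsp, hj⟩ := FiniteField.card F s
    have hs2 : s = 2 := (Nat.prime_dvd_prime_iff_eq hsp Nat.prime_two).1
      (hsp.dvd_of_dvd_pow (hF ▸ hj ▸ dvd_pow_self s j.ne_zero))
    exact hs2 ▸ hs
  have hoprime : ∀ g : CfsgLib.SL2C.SL F, g ≠ 1 → (orderOf g).Prime := fun g hg => by
    have h := hprime' (φ.symm (CfsgLib.SL2C.pm g)) (fun e => hg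
      (CfsgLib.SL2C.pm_injective (F := F) (φ.symm.injective (by rw [e, map_one, map_one]))))
    rwa [MulEquiv.orderOf_eq, orderOf_injective _ CfsgLib.SL2C.pm_injective] at h
  have hq4 : 4 ≤ Fintype.card F := hF ▸ (Nat.pow_le_pow_right (by norm_num) hk2 : 2 ^ 2 ≤ 2 ^ k)
  have hm1 : (Fintype.card F - 1).Prime := by
    obtain ⟨a, ha⟩ := IsCyclic.exists_ofOrder_eq_natCard (α := Fˣ)
    rw [Nat.card_eq_fintype_card, Fintype.card_units] at ha
    have hinj : Function.Injective (CfsgLib.SL2C.dg : Fˣ →* CfsgLib.SL2C.SL F) := fun x y h =>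
      (CfsgLib.SL2C.bor_inj (b := 0) (b' := 0) h).1
    have := hoprime (CfsgLib.SL2C.dg a) fun h => by
      rw [hinj (h.trans (map_one _).symm), orderOf_one] at ha; omega
    rwa [orderOf_injective _ hinj, ha] at this
  have hp1' : (Fintype.card F + 1).Prime := by
    obtain ⟨c, hc⟩ := CfsgLib.SL2C.exists_ell (F := F)
    haveI := CfsgLib.SL2C.isCyclic_tor hc
    obtain ⟨a, ha⟩ := IsCyclic.exists_ofOrder_eq_natCard (α := CfsgLib.SL2C.tor c)
    rw [CfsgLib.SL2C.card_tor hc] at ha
    have := hoprime (a : CfsgLib.SL2C.SL F) fun h => by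
      rw [show a = 1 from Subtype.ext h, orderOf_one] at ha; omega
    rwa [Subgroup.orderOf_coe, ha] at this
  have hF4 : Fintype.card F = 4 := by
    have h3 : 3 ∣ Fintype.card F - 1 ∨ 3 ∣ Fintype.card F + 1 := by
      have : ¬ 3 ∣ Fintype.card F := fun h => by
        rw [hF] at h
        exact absurd (Nat.prime_three.dvd_of_dvd_pow h) (by norm_num)
      omega
    rcases h3 with h | h
    · have := (Nat.prime_dvd_prime_iff_eq Nat.prime_three hm1).1 h
      omega
    · have := (Nat.prime_dvd_prime_iff_eq Nat.prime_three hp1').1 h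
      omega
  obtain ⟨ψ⟩ := Cfsg.Agent.S0252.result hF4
  exact ⟨φ.trans ψ⟩

end CfsgLib.FourAutOrbits
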